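import Cfsg.Agent.Lib.Schur.Coxeter.SpSix

/-!
Owner: helper24. Seven elements satisfying the relations of `W(E₇)` generate a copy of `Sp₆(2)` as soon as they
generate a perfect group, or a group with trivial centre.
-/

set_option autoImplicit false

namespace CfsgLib.Recog.ThreeCentSpSix

open CfsgLib.Schur.Cox

universe u

/-- The relations of the Coxeter matrix of type `E₇`. -/
structure ESevenRel {G : Type u} [Group G] (t : Fin 7 → G) : Prop where
  sq : ∀ i, t i * t i = 1
  comm : ∀ i j, CoxeterMatrix.E₇ i j = 2 → t i * t j = t j * t i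
  braid : ∀ i j, CoxeterMatrix.E₇ i j = 3 → t i * t j * t i = t j * t i * t j

theorem laced : ∀ i j : Fin 7, i ≠ j → CoxeterMatrix.E₇ i j = 2 ∨ CoxeterMatrix.E₇ i j = 3 :=
  forall_pair (by decide +kernel)

variable {G : Type u} [Group G] {t : Fin 7 → G}

theorem ESevenRel.isLiftable (h : ESevenRel t) : CoxeterMatrix.E₇.IsLiftable t := by
  intro i j
  rcases eq_or_ne i j with rfl | hij
  · rw [CoxeterMatrix.diagonal, pow_one]
    exact h.sq i
  rcases laced i j hij with h2 | h3
  · rw [h2, (show Commute (t i) (t j) from h.comm i j h2).mul_pow, pow_two, pow_two, h.sq, h.sq, one_mul]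
  · rw [h3, cube_of_braid (z := (1 : G)) (one_mem _) (h.sq i) (h.sq j) (h.braid i j h3), one_pow]

/-- the map from the Coxeter group -/
noncomputable def ESevenRel.hom (h : ESevenRel t) : CoxeterMatrix.E₇.Group →* G :=
  CoxeterMatrix.E₇.toCoxeterSystem.lift ⟨t, h.isLiftable⟩

theorem ESevenRel.hom_simple (h : ESevenRel t) (i : Fin 7) :
    h.hom (CoxeterMatrix.E₇.toCoxeterSystem.simple i) = t i :=
  CoxeterSystem.lift_apply_simple _ _ i

theorem ESevenRel.range_hom (h : ESevenRel t) : h.hom.range = Subgroup.closure (Set.range t) := by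
  rw [MonoidHom.range_eq_map, ← CoxeterMatrix.E₇.toCoxeterSystem.subgroup_closure_range_simple,
    MonoidHom.map_closure, ← Set.range_comp]
  exact congrArg (fun f => Subgroup.closure (Set.range f)) (funext h.hom_simple)

theorem spSix_rel : ESevenRel SpSix.s :=
  ⟨SpSix.s_sq, fun _ _ h => SpSix.s_comm h, fun _ _ h => SpSix.s_braid h⟩

theorem card_eSeven : Nat.card CoxeterMatrix.E₇.Group = 2903040 :=
  Cfsg.Agent.S1093.result (⟨7, CoxeterMatrix.E₇⟩, 2903040) (by simp)

theorem card_lengthParity_ker :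
    Nat.card CoxeterMatrix.E₇.toCoxeterSystem.lengthParity.ker = 1451520 := by
  have hsurj : Function.Surjective CoxeterMatrix.E₇.toCoxeterSystem.lengthParity := fun a => by
    rcases (by decide : ∀ a : Multiplicative (ZMod 2), a = 1 ∨ a = Multiplicative.ofAdd 1) a with rfl | rfl
    · exact ⟨1, map_one _⟩
    · exact ⟨CoxeterMatrix.E₇.toCoxeterSystem.simple (0 : Fin 7),
        CoxeterMatrix.E₇.toCoxeterSystem.lengthParity_simple _⟩
  have := Subgroup.card_mul_index CoxeterMatrix.E₇.toCoxeterSystem.lengthParity.ker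
  rw [Subgroup.index_ker, MonoidHom.range_eq_top.2 hsurj, Subgroup.card_top, card_eSeven,
    show Nat.card (Multiplicative (ZMod 2)) = 2 by simp] at this
  omega

/-- The even subgroup of `W(E₇)` is `Sp₆(2)`. -/
theorem exists_even_equiv :
    ∃ e : CoxeterMatrix.E₇.toCoxeterSystem.lengthParity.ker ≃* SpSix.Grp,
      ∀ w, e w = spSix_rel.hom w.1 := by
  have : Finite CoxeterMatrix.E₇.Group := Nat.finite_of_card_ne_zero (by rw [card_eSeven]; norm_num)
  set K := CoxeterMatrix.E₇.toCoxeterSystem.lengthParity.ker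
  let f : K →* SpSix.Grp := spSix_rel.hom.comp K.subtype
  have hsur : Function.Surjective f := by
    rw [← MonoidHom.range_eq_top, eq_top_iff, ← SpSix.commutator_grp, commutator_def]
    have h1 : ⁅spSix_rel.hom.range, spSix_rel.hom.range⁆ ≤ f.range := by
      rw [MonoidHom.range_comp, Subgroup.range_subtype, MonoidHom.range_eq_map, ← Subgroup.map_commutator]
      exact Subgroup.map_mono ((commutator_def _).symm.le.trans (Abelianization.commutator_subset_ker _))
    rwa [spSix_rel.range_hom, SpSix.closure_s] at h1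
  have hbij : Function.Bijective f :=
    hsur.bijective_of_nat_card_le (by rw [SpSix.card_grp, card_lengthParity_ker])
  exact ⟨MulEquiv.ofBijective f hbij, fun w => rfl⟩

/-- The image of the even subgroup is `Sp₆(2)`, unless the first and third element commute. -/
theorem ESevenRel.exists_even (h : ESevenRel t) (hne : t 0 * t 2 ≠ t 2 * t 0) :
    ∃ f : SpSix.Grp →* G, Function.Injective f ∧
      f.range = CoxeterMatrix.E₇.toCoxeterSystem.lengthParity.ker.map h.hom := by
  obtain ⟨e, -⟩ := exists_even_equiv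
  have := SpSix.isSimpleGroup_grp
  refine ⟨(h.hom.comp (Subgroup.subtype _)).comp e.symm.toMonoidHom, ?_, ?_⟩
  · rw [← MonoidHom.ker_eq_bot_iff]
    refine (Subgroup.Normal.eq_bot_or_eq_top (MonoidHom.normal_ker _)).resolve_right fun htop => hne ?_
    have hp : CoxeterMatrix.E₇.toCoxeterSystem.simple (0 : Fin 7) *
        CoxeterMatrix.E₇.toCoxeterSystem.simple (2 : Fin 7) ∈ CoxeterMatrix.E₇.toCoxeterSystem.lengthParity.ker := by
      rw [MonoidHom.mem_ker, map_mul, CoxeterSystem.lengthParity_simple, CoxeterSystem.lengthParity_simple]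
      decide
    have h1 : e ⟨_, hp⟩ ∈ ((h.hom.comp (Subgroup.subtype _)).comp e.symm.toMonoidHom).ker :=
      htop.symm ▸ Subgroup.mem_top _
    rw [MonoidHom.mem_ker] at h1
    have h2 : t 0 * t 2 = 1 := by
      have h3 : h.hom (CoxeterMatrix.E₇.toCoxeterSystem.simple (0 : Fin 7) *
          CoxeterMatrix.E₇.toCoxeterSystem.simple (2 : Fin 7)) = 1 := by simpa using h1
      rwa [map_mul, h.hom_simple, h.hom_simple] at h3
    have h02 : t 0 = t 2 := by
      rw [eq_inv_of_mul_eq_one_left h2, inv_eq_of_mul_eq_one_right (h.sq 2)]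
    rw [h02]
  · rw [MonoidHom.range_comp, MonoidHom.range_eq_top.2 e.symm.surjective, ← MonoidHom.range_eq_map,
      MonoidHom.range_comp, Subgroup.range_subtype]

theorem ESevenRel.range_le (h : ESevenRel t) (i : Fin 7)
    (hi : t i ∈ CoxeterMatrix.E₇.toCoxeterSystem.lengthParity.ker.map h.hom) :
    Subgroup.closure (Set.range t) = CoxeterMatrix.E₇.toCoxeterSystem.lengthParity.ker.map h.hom := by
  refine le_antisymm ((Subgroup.closure_le _).2 ?_) (h.range_hom ▸ Subgroup.map_le_range _ _)
  rintro _ ⟨j, rfl⟩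
  set cs := CoxeterMatrix.E₇.toCoxeterSystem
  have hp : cs.simple j * cs.simple i ∈ cs.lengthParity.ker := by
    rw [MonoidHom.mem_ker, map_mul, cs.lengthParity_simple, cs.lengthParity_simple]
    decide
  have h2 := mul_mem (Subgroup.mem_map_of_mem h.hom hp) hi
  rwa [map_mul, h.hom_simple, h.hom_simple, mul_assoc, h.sq, mul_one] at h2

/-- The longest element: a central element of odd length. -/
theorem exists_central_odd :
    ∃ z : CoxeterMatrix.E₇.Group, z ∈ Subgroup.center CoxeterMatrix.E₇.Group ∧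
      z ∉ CoxeterMatrix.E₇.toCoxeterSystem.lengthParity.ker ∧ spSix_rel.hom z = 1 := by
  have : Finite CoxeterMatrix.E₇.Group := Nat.finite_of_card_ne_zero (by rw [card_eSeven]; norm_num)
  have hr : spSix_rel.hom.range = ⊤ := by rw [spSix_rel.range_hom, SpSix.closure_s]
  have hk : Nat.card spSix_rel.hom.ker = 2 := by
    have := Subgroup.card_mul_index spSix_rel.hom.ker
    have h2 : spSix_rel.hom.ker.index = 1451520 := by
      rw [Subgroup.index_ker, hr, Subgroup.card_top]
      exact SpSix.card_grp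
    exact Nat.eq_of_mul_eq_mul_right (show 0 < 1451520 by norm_num)
      ((congrArg (Nat.card spSix_rel.hom.ker * ·) h2).symm.trans
        (this.trans (card_eSeven.trans (by norm_num))))
  obtain ⟨⟨z, hz⟩, hz1, huniq⟩ := (Nat.card_eq_two_iff' (1 : spSix_rel.hom.ker)).1 hk
  refine ⟨z, Subgroup.mem_center_iff.2 fun g => ?_, fun hzK => hz1 ?_, hz⟩
  · have h1 := huniq ⟨g * z * g⁻¹, (MonoidHom.normal_ker _).conj_mem z hz g⟩ fun e => hz1 (Subtype.ext
      (show z = 1 from conj_eq_one_iff.1 (congrArg Subtype.val e)))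
    exact mul_inv_eq_iff_eq_mul.1 (congrArg Subtype.val h1)
  · obtain ⟨e, he⟩ := exists_even_equiv
    have h1 : e ⟨z, hzK⟩ = 1 := (he _).trans hz
    exact Subtype.ext (congrArg Subtype.val (e.injective (h1.trans (map_one e).symm)) :)

/-- A group with trivial centre generated by seven such elements is `Sp₆(2)`. -/
theorem ESevenRel.equiv_of_center (h : ESevenRel t) (hne : t 0 * t 2 ≠ t 2 * t 0)
    (hZ : ∀ z ∈ Subgroup.closure (Set.range t), (∀ i, z * t i = t i * z) → z = 1) :
    Nonempty (Subgroup.closure (Set.range t) ≃* SpSix.Grp) := by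
  obtain ⟨z, hzc, hzK, -⟩ := exists_central_odd
  have hz1 : h.hom z = 1 := hZ _ (h.range_hom ▸ ⟨z, rfl⟩) fun i => by
    rw [← h.hom_simple i, ← map_mul, ← map_mul, Subgroup.mem_center_iff.1 hzc]
  obtain ⟨f, hinj, hrange⟩ := h.exists_even hne
  refine ⟨((MonoidHom.ofInjective hinj).trans
    (MulEquiv.subgroupCongr (hrange.trans (h.range_le 0 ?_).symm))).symm⟩
  refine ⟨CoxeterMatrix.E₇.toCoxeterSystem.simple (0 : Fin 7) * z, ?_, ?_⟩
  · rw [SetLike.mem_coe, MonoidHom.mem_ker, map_mul, CoxeterSystem.lengthParity_simple]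
    rw [MonoidHom.mem_ker] at hzK
    rw [((by decide : ∀ a : Multiplicative (ZMod 2), a ≠ 1 → a = Multiplicative.ofAdd 1) _ hzK)]
    decide
  · rw [map_mul, hz1, mul_one, h.hom_simple]

/-- A perfect group generated by seven such elements is `Sp₆(2)`. -/
theorem ESevenRel.equiv_of_perfect (h : ESevenRel t) (hne : t 0 * t 2 ≠ t 2 * t 0)
    (hperf : t 0 ∈ ⁅Subgroup.closure (Set.range t), Subgroup.closure (Set.range t)⁆) :
    Nonempty (Subgroup.closure (Set.range t) ≃* SpSix.Grp) := by
  have h0 : t 0 ∈ CoxeterMatrix.E₇.toCoxeterSystem.lengthParity.ker.map h.hom := by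
    rw [← h.range_hom, MonoidHom.range_eq_map, ← Subgroup.map_commutator] at hperf
    exact Subgroup.map_mono ((commutator_def _).symm.le.trans (Abelianization.commutator_subset_ker _)) hperf
  obtain ⟨f, hinj, hrange⟩ := h.exists_even hne
  exact ⟨((MonoidHom.ofInjective hinj).trans
    (MulEquiv.subgroupCongr (hrange.trans (h.range_le 0 h0).symm))).symm⟩

end CfsgLib.Recog.ThreeCentSpSix
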